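import Groth.Agent.AlgSpInd.Chain
import Groth.Agent.S9920
import Groth.Agent.ASp.TopFpqc
import Groth.Agent.ASp.QSBase
import Groth.Agent.ASp.QSComp

/-! The induction principle for quasi-compact quasi-separated spaces. -/

set_option autoImplicit false
set_option backward.isDefEq.respectTransparency false
set_option backward.isDefEq.respectTransparency.types false
universe u

open CategoryTheory CategoryTheory.Limits AlgebraicGeometry Opposite
open _root_.AlgSp

namespace Groth.Agent.AlgSpInd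

variable {S : Scheme.{u}}

theorem isCompact_range {A B : AlgSp.Space S} (j : A ⟶ B) (hA : IsQuasiCompactSp A.obj) :
    IsCompact (Set.range (Points.map j.hom)) :=
  haveI := ASp.compactSpace_of_isQuasiCompactSp hA
  _root_.isCompact_range (Points.continuous_map _)

theorem qc_of_range {A B : AlgSp.Space S} (j : A ⟶ B) (hj : RepWith @IsOpenImmersion j.hom)
    (hc : IsCompact (Set.range (Points.map j.hom))) : IsQuasiCompactSp A.obj := by
  haveI : CompactSpace (Points A.obj) := by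
    refine ⟨(ASp.isEmbedding_of_immersion B.property (ASp.repWith_mono
      (fun _ _ g (hg : IsOpenImmersion g) => inferInstanceAs (IsImmersion g)) hj)).1.isInducing.isCompact_iff.2 ?_⟩
    rwa [Set.image_univ]
  exact ASp.isQuasiCompactSp_of_compactSpace A.property

theorem hom_fac {A B G : AlgSp.Space S} (j : A ⟶ B) (hj : RepWith @IsOpenImmersion j.hom) (f : G ⟶ B)
    (h : Set.range (Points.map f.hom) ⊆ Set.range (Points.map j.hom)) : ∃ k : G ⟶ A, k ≫ j = f := by
  obtain ⟨k, hk⟩ := exists_fac_openImm hj f.hom h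
  exact ⟨ObjectProperty.homMk k, ObjectProperty.hom_ext _ hk⟩

theorem openImm_of_fac {A₁ A₂ B : AlgSp.Space S} {j₂ : A₂ ⟶ B} (hj₂ : RepWith @IsOpenImmersion j₂.hom)
    {j₁ : A₁ ⟶ B} (hj₁ : RepWith @IsOpenImmersion j₁.hom) {k : A₁ ⟶ A₂} (hk : k ≫ j₂ = j₁) :
    RepWith @IsOpenImmersion k.hom :=
  haveI := mono_openImm hj₂
  repWith_of_comp_mono (congrArg InducedCategory.Hom.hom hk) hj₁

theorem isPullback_openImm {P U V W : Sp S} {p : P ⟶ U} {q : P ⟶ V} {κ : U ⟶ W} {g : V ⟶ W}
    (hκ : RepWith @IsOpenImmersion κ) (hq : RepWith @IsOpenImmersion q) (h : p ≫ κ = q ≫ g)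
    (hr : Points.map g ⁻¹' Set.range (Points.map κ) ⊆ Set.range (Points.map q)) :
    IsPullback p q κ g := by
  have := mono_openImm hκ
  have := mono_openImm hq
  have hl : ∀ s : PullbackCone κ g, ∃ l : s.pt ⟶ P, l ≫ q = s.snd := fun s =>
    exists_fac_openImm hq s.snd (by
      rintro _ ⟨x, rfl⟩
      refine hr ⟨Points.map s.fst x, ?_⟩
      rw [← Points.map_comp, ← Points.map_comp, s.condition])
  choose l hl using hl
  refine IsPullback.of_isLimit (PullbackCone.IsLimit.mk h l (fun s => ?_) hl (fun s m _ hm => ?_))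
  · rw [← cancel_mono κ, Category.assoc, h, reassoc_of% hl s, s.condition]
  · rw [← cancel_mono q, hm, hl]

/-- Two open subspaces covering a space form an elementary distinguished square. -/
theorem isElemDistSq_of_cover {W₁ W₂ : AlgSp.Space S} (κ : W₁ ⟶ W₂) (hκ : RepWith @IsOpenImmersion κ.hom)
    {V : Sp S} (g : V ⟶ W₂.obj) (hg : RepWith @IsOpenImmersion g) (het : IsEtaleMor g)
    (hs : (Set.range (Points.map κ.hom))ᶜ ⊆ Set.range (Points.map g)) : IsElemDistSq κ.hom g := by
  obtain ⟨T', i', hTa, hi'⟩ := ASp.exists_redInduced W₂.property (isOpen_range_openImm hκ).isClosed_compl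
  obtain ⟨P', p₁, p₂, sqP⟩ : ∃ (P' : Sp S) (p₁ : P' ⟶ T') (p₂ : P' ⟶ V),
      IsPullback p₁ p₂ i' g := ⟨_, _, _, IsPullback.of_hasPullback _ _⟩
  refine ⟨hκ, het, T', P', i', p₁, p₂, hi', sqP, ?_⟩
  obtain ⟨q, hq⟩ := exists_fac_openImm hg i' (hi'.2.1.subset.trans hs)
  have := mono_openImm hg
  refine ⟨sqP.lift (𝟙 T') q (by rw [Category.id_comp]; exact hq.symm), ?_, sqP.lift_fst _ _ _⟩
  refine sqP.hom_ext (by simp) ?_
  refine ((Category.assoc _ _ _).trans (congrArg (p₁ ≫ ·) (sqP.lift_snd _ _ _))).trans ?_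
  rw [Category.id_comp, ← cancel_mono g, Category.assoc, hq, sqP.w]

theorem isEtaleMor_of_openImm' {A B : Sp S} {g : A ⟶ B} (hg : RepWith @IsOpenImmersion g) : IsEtaleMor g :=
  fun _ φ hφ => ASp.repWith_comp (P := @Etale) hφ
    (ASp.repWith_mono (fun _ _ k (hk : IsOpenImmersion k) => inferInstanceAs (Etale k)) hg)

/-- The enlargement principle. -/
theorem enlarge_principle [QuasiSeparatedSpace ↥S] (X : AlgSp.Space S)
    (hXc : IsQuasiCompactSp X.obj) (hXs : IsQuasiSeparatedSp X.obj)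
    (P : ∀ U : AlgSp.Space S, (U ⟶ X) → Prop)
    (W : AlgSp.Space S) (jW : W ⟶ X) (hjW : RepWith @IsOpenImmersion jW.hom)
    (hWc : IsQuasiCompactSp W.obj) (h1 : P W jW)
    (h2 : ∀ (W₁ W₂ V : AlgSp.Space S) (j₁ : W₁ ⟶ X) (j₂ : W₂ ⟶ X) (k : W₁ ⟶ W₂) (m : W ⟶ W₁) (f : V ⟶ W₂),
      RepWith @IsOpenImmersion j₁.hom → RepWith @IsOpenImmersion j₂.hom →
      k ≫ j₂ = j₁ → m ≫ j₁ = jW →
      IsQuasiCompactSp W₁.obj → IsQuasiCompactSp W₂.obj →
      (∃ T : Over S, IsAffine T.left ∧ Nonempty ((yon S).obj T ≅ V.obj)) →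
      IsElemDistSq k.hom f.hom → P W₁ j₁ → P W₂ j₂) :
    P X (𝟙 X) := by
  have hX' : RepWith @IsOpenImmersion (𝟙 X : X ⟶ X).hom :=
    (repWith_isMultiplicative (S := S) @IsOpenImmersion).id_mem _
  refine (enlarge X hXc hXs _ (isOpen_range_openImm hjW) (isCompact_range jW hWc)
    (fun O => ∀ (W₂ : AlgSp.Space S) (j₂ : W₂ ⟶ X), RepWith @IsOpenImmersion j₂.hom →
      Set.range (Points.map j₂.hom) = O → P W₂ j₂) ?_ ?_) X (𝟙 X) hX' ?_
  · intro W₂ j₂ hj₂ hr
    obtain ⟨m, hm⟩ := hom_fac j₂ hj₂ jW hr.symm.subset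
    have hmo := openImm_of_fac hj₂ hjW hm
    have hs : Set.range (Points.map m.hom) = Set.univ := by
      refine Set.range_eq_univ.2 fun y => ?_
      obtain ⟨x, hx⟩ := hr.subset ⟨y, rfl⟩
      refine ⟨x, (ASp.isEmbedding_of_immersion X.property (ASp.repWith_mono
        (fun _ _ g (hg : IsOpenImmersion g) => inferInstanceAs (IsImmersion g)) hj₂)).1.injective ?_⟩
      rw [← Points.map_comp, ← ObjectProperty.FullSubcategory.comp_hom, hm, hx]
    obtain ⟨U, g, hU, hg, -, hsq⟩ := isElemDistSq_empty m hmo hs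
    exact h2 W W₂ ((AlgSp.ofScheme S).obj U) jW j₂ m (𝟙 W) (ObjectProperty.homMk g) hjW hj₂ hm
      (Category.id_comp _) hWc (qc_of_range j₂ hj₂ (hr ▸ isCompact_range jW hWc)) ⟨U, hU, ⟨Iso.refl _⟩⟩ hsq h1
  · intro O hO O' hOc hsub _ hOc' hP hsq W₂ j₂ hj₂ hr
    obtain ⟨T, g, κ, hT, hκ, -, hd⟩ := hsq W₂ j₂ hj₂ hr
    obtain ⟨m, hm⟩ := hom_fac (subIncl X O hO) (repWith_subIncl X O hO) jW (by rw [range_subIncl]; exact hsub)
    exact h2 (sub X O hO) W₂ ((AlgSp.ofScheme S).obj T) (subIncl X O hO) j₂ κ m (ObjectProperty.homMk g)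
      (repWith_subIncl X O hO) hj₂ hκ hm
      (qc_of_range _ (repWith_subIncl X O hO) (by rw [range_subIncl]; exact hOc))
      (qc_of_range _ hj₂ (hr ▸ hOc')) ⟨T, hT, ⟨Iso.refl _⟩⟩ hd (hP _ _ (repWith_subIncl X O hO) (range_subIncl X O hO))
  · exact Set.range_eq_univ.2 fun x => ⟨x, Points.map_id _⟩

theorem qs_of_mono {A B : Sp S} (i : A ⟶ B) [Mono i] (h : IsQuasiSeparatedSp B) : IsQuasiSeparatedSp A :=
  ASp.isQuasiSeparatedSp_of_mor h (ASp.repWith_diagonal_of_mono (P := @QuasiCompact) i)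

theorem qs_of_openImm {X : AlgSp.Space S} {U W : EtSpOver X} (j : U ⟶ W)
    (hj : RepWith @IsOpenImmersion j.hom.left.hom) (h : IsQuasiSeparatedSp W.obj.left.obj) :
    IsQuasiSeparatedSp U.obj.left.obj :=
  haveI := mono_openImm hj
  qs_of_mono j.hom.left.hom h

theorem qs_yon [QuasiSeparatedSpace ↥S] (T : Over S) [QuasiSeparatedSpace T.left] :
    IsQuasiSeparatedSp ((yon S).obj T) := by
  have hO : IsQuasiSeparatedSp ((yon S).obj (Over.mk (𝟙 S))) := by
    haveI : IsIso (Limits.diag ((yon S).obj (Over.mk (𝟙 S)))) :=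
      ⟨⟨prod.fst, by simp [Limits.diag], prod.hom_ext (ASp.isTerminalYonBase.hom_ext _ _) (ASp.isTerminalYonBase.hom_ext _ _)⟩⟩
    exact ASp.repWith_of_isIso _
  refine ASp.isQuasiSeparatedSp_of_mor hO ((isQuasiSeparatedMor_yon_map_iff
    ((Over.mkIdTerminal (X := S)).from T)).2 ?_)
  exact inferInstanceAs (QuasiSeparated ((Over.mkIdTerminal (X := S)).from T).left)

theorem qcqs_of_affine {A : Sp S} [QuasiSeparatedSpace ↥S] (T : Over S) (hT : IsAffine T.left) (e : (yon S).obj T ≅ A) :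
    IsQuasiCompactSp A ∧ IsQuasiSeparatedSp A := by
  have hA : IsAlgSpace A := (IsAlgSpace.yon_obj T).of_iso e
  haveI := ASp.compactSpace_of_isQuasiCompactSp (ASp.isQuasiCompactSp_yon (W := T))
  haveI : CompactSpace (Points A) := (Function.HasRightInverse.surjective
    ⟨Points.map e.inv, fun x => by rw [← Points.map_comp, e.inv_hom_id, Points.map_id]⟩ :
      Function.Surjective (Points.map e.hom)).compactSpace (Points.continuous_map _)
  exact ⟨ASp.isQuasiCompactSp_of_compactSpace hA, qs_of_mono e.inv (qs_yon T)⟩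

section EtSp

variable {X : AlgSp.Space S}

/-- A space etale over an object of the site, as an object of the site. -/
noncomputable def ov (W : EtSpOver X) {A : AlgSp.Space S} (f : A ⟶ W.obj.left) (hf : IsEtaleMor f.hom) :
    EtSpOver X :=
  ⟨Over.mk (f ≫ W.obj.hom), fun {T} φ hφ => by
    show RepWith @Etale (φ ≫ f.hom ≫ W.obj.hom.hom)
    rw [← Category.assoc]
    exact W.property (φ ≫ f.hom) (hf φ hφ)⟩

/-- A morphism of objects of the site. -/
def mkHom {A B : EtSpOver X} (f : A.obj.left ⟶ B.obj.left) (h : f ≫ B.obj.hom = A.obj.hom) : A ⟶ B :=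
  ObjectProperty.homMk (Over.homMk f h)

theorem mkHom_hom {A B : EtSpOver X} (f : A.obj.left ⟶ B.obj.left) (h : f ≫ B.obj.hom = A.obj.hom) :
    (mkHom f h).hom.left = f := rfl

variable (B P : EtSpOver X → Prop)

/-- Stability of a class under quasi-compact open subobjects. -/
def OpenClosed : Prop :=
  ∀ (W U : EtSpOver X) (j : U ⟶ W), B W → RepWith @IsOpenImmersion j.hom.left.hom →
    IsQuasiCompactSp U.obj.left.obj → B U

/-- The affine case of the induction. -/
def AffineCase : Prop :=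
  ∀ (V : EtSpOver X) (T : Over S), IsAffine T.left → Nonempty ((yon S).obj T ≅ V.obj.left.obj) → B V ∧ P V

/-- The glueing case of the induction. -/
def GlueCase : Prop :=
  ∀ (W U V UV : EtSpOver X) (j : U ⟶ W) (f : V ⟶ W) (p : UV ⟶ U) (q : UV ⟶ V),
    B W → IsQuasiCompactSp U.obj.left.obj →
    (∃ T : Over S, IsAffine T.left ∧ Nonempty ((yon S).obj T ≅ V.obj.left.obj)) →
    IsElemDistSq j.hom.left.hom f.hom.left.hom →
    IsPullback p.hom.left.hom q.hom.left.hom j.hom.left.hom f.hom.left.hom →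
    P U → P V → P UV → P W

/-- The points of a basic open of an affine chart. -/
def bopen (T : Over S) (a : Γ(T.left, ⊤)) : Set (Points ((yon S).obj T)) :=
  Points.schemeHomeo T '' (T.left.basicOpen a : Set ↥T.left)

variable {B P}

theorem isOpen_bopen (T : Over S) (a : Γ(T.left, ⊤)) : IsOpen (bopen T a) :=
  (Points.schemeHomeo T).isOpenMap _ (T.left.basicOpen a).2

theorem isCompact_bopen (T : Over S) [IsAffine T.left] (a : Γ(T.left, ⊤)) : IsCompact (bopen T a) :=
  ((isAffineOpen_top T.left).basicOpen a).isCompact.image (Points.schemeHomeo T).continuous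

theorem bopen_mul (T : Over S) (a b : Γ(T.left, ⊤)) : bopen T (a * b) = bopen T a ∩ bopen T b := by
  simp only [bopen, ← Set.image_inter (Points.schemeHomeo T).injective, Scheme.basicOpen_mul]
  rfl

theorem map_iso_bopen {T : Over S} {Y : Sp S} (e : (yon S).obj T ≅ Y) (a b : Γ(T.left, ⊤)) :
    Points.map e.hom '' bopen T (a * b) = Points.map e.hom '' bopen T a ∩ Points.map e.hom '' bopen T b := by
  rw [bopen_mul, Set.image_inter]
  intro x y h
  have := congrArg (Points.map e.inv) h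
  rwa [← Points.map_comp, ← Points.map_comp, e.hom_inv_id, Points.map_id, Points.map_id] at this

theorem exists_basic (T : Over S) [IsAffine T.left] {Y : AlgSp.Space S} (e : (yon S).obj T ≅ Y.obj)
    (a : Γ(T.left, ⊤)) : ∃ (T' : Over S) (g : (AlgSp.ofScheme S).obj T' ⟶ Y), IsAffine T'.left ∧
      RepWith @IsOpenImmersion g.hom ∧ Set.range (Points.map g.hom) = Points.map e.hom '' bopen T a := by
  let T' : Over S := Over.mk ((T.left.basicOpen a).ι ≫ T.hom)
  let k : T' ⟶ T := Over.homMk (T.left.basicOpen a).ι rfl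
  refine ⟨T', ObjectProperty.homMk ((yon S).map k ≫ e.hom), (isAffineOpen_top T.left).basicOpen a, ?_, ?_⟩
  · exact (MorphismProperty.cancel_right_of_respectsIso (RepWith @IsOpenImmersion) _ e.hom).2
      (ASp.repWith_yon_map (P := @IsOpenImmersion) (g := k)
        (inferInstanceAs (IsOpenImmersion (T.left.basicOpen a).ι)))
  · ext x
    constructor
    · rintro ⟨y, rfl⟩
      obtain ⟨y, rfl⟩ := (Points.schemeHomeo T').surjective y
      exact ⟨_, ⟨k.left y, y.2, rfl⟩, by rw [← Points.map_yon_map_apply, ← Points.map_comp]; rfl⟩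
    · rintro ⟨_, ⟨z, hz, rfl⟩, rfl⟩
      refine ⟨Points.schemeHomeo T' ⟨z, hz⟩, ?_⟩
      show Points.map ((yon S).map k ≫ e.hom) _ = _
      rw [Points.map_comp, Points.map_yon_map_apply]
      rfl

theorem of_empty (h3 : AffineCase B P) (U : EtSpOver X) (hU : IsEmpty (Points U.obj.left.obj)) : P U := by
  obtain ⟨T, p, -, hT, hp⟩ := exists_empty_chart U.obj.left hU
  exact (h3 U T hT ⟨asIso p⟩).2

theorem over_w {A C : EtSpOver X} (j : A ⟶ C) : j.hom.left ≫ C.obj.hom = A.obj.hom := Over.w j.hom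

theorem of_opens_of_affine (h2 : OpenClosed B) (h3 : AffineCase B P) (h4 : GlueCase B P)
    (V : EtSpOver X) (T : Over S) [IsAffine T.left] (e : (yon S).obj T ≅ V.obj.left.obj) :
    ∀ (n : ℕ) (s : List Γ(T.left, ⊤)), s.length ≤ n → ∀ (U : EtSpOver X) (j : U ⟶ V),
      RepWith @IsOpenImmersion j.hom.left.hom →
      Set.range (Points.map j.hom.left.hom) = ⋃ a ∈ s, Points.map e.hom '' bopen T a → P U := by
  intro n
  induction n with
  | zero =>
    intro s hs U j _ hr
    obtain rfl : s = [] := List.eq_nil_of_length_eq_zero (Nat.le_zero.1 hs)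
    refine of_empty h3 U ⟨fun x => ?_⟩
    simpa using hr.subset ⟨x, rfl⟩
  | succ n ih =>
    intro s hs U j hj hr
    cases s with
    | nil => exact ih [] (Nat.zero_le _) U j hj hr
    | cons a t =>
      simp only [List.length_cons, Nat.add_le_add_iff_right] at hs
      let G : Set (Points V.obj.left.obj) := Points.map e.hom '' bopen T a
      let O₁ : Set (Points V.obj.left.obj) := ⋃ b ∈ t, Points.map e.hom '' bopen T b
      have hcov : Set.range (Points.map j.hom.left.hom) = G ∪ O₁ := by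
        rw [hr]; ext x; simp [G, O₁]
      obtain ⟨T', g, hT', hg, hgr⟩ := exists_basic T (Y := V.obj.left) e a
      have hGo : IsOpen G := (show _ = G from hgr) ▸ isOpen_range_openImm hg
      have hbo : ∀ b, IsOpen (Points.map e.hom '' bopen T b) := fun b => by
        obtain ⟨_, g', _, hg', hg'r⟩ := exists_basic T (Y := V.obj.left) e b
        exact hg'r ▸ isOpen_range_openImm hg'
      have hbc : ∀ b, IsCompact (Points.map e.hom '' bopen T b) := fun b =>
        (isCompact_bopen T b).image (Points.continuous_map _)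
      have hO₁ : IsOpen O₁ := isOpen_iUnion fun b => isOpen_iUnion fun _ => hbo b
      have hO₁c : IsCompact O₁ := t.finite_toSet.isCompact_biUnion fun b _ => hbc b
      have hI : O₁ ∩ G = ⋃ c ∈ t.map (· * a), Points.map e.hom '' bopen T c := by
        ext x
        simp only [O₁, G, Set.mem_inter_iff, Set.mem_iUnion, List.mem_map, exists_prop]
        constructor
        · rintro ⟨⟨b, hb, hx⟩, hx'⟩
          exact ⟨_, ⟨b, hb, rfl⟩, by rw [map_iso_bopen]; exact ⟨hx, hx'⟩⟩
        · rintro ⟨_, ⟨b, hb, rfl⟩, hx⟩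
          rw [map_iso_bopen] at hx
          exact ⟨⟨b, hb, hx.1⟩, hx.2⟩
      let U₁ := ov V (subIncl V.obj.left O₁ hO₁) (isEtaleMor_of_openImm' (repWith_subIncl _ _ hO₁))
      let U₂ := ov V g (isEtaleMor_of_openImm' hg)
      let U₃ := ov V (subIncl V.obj.left (O₁ ∩ G) (hO₁.inter hGo))
        (isEtaleMor_of_openImm' (repWith_subIncl _ _ (hO₁.inter hGo)))
      obtain ⟨k₁, hk₁⟩ := hom_fac j.hom.left hj (subIncl V.obj.left O₁ hO₁)
        (by rw [range_subIncl, hcov]; exact Set.subset_union_right)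
      obtain ⟨k₂, hk₂⟩ := hom_fac j.hom.left hj g (by rw [hgr, hcov]; exact Set.subset_union_left)
      obtain ⟨p, hp⟩ := hom_fac (subIncl V.obj.left O₁ hO₁) (repWith_subIncl _ _ hO₁)
        (subIncl V.obj.left (O₁ ∩ G) (hO₁.inter hGo)) (by rw [range_subIncl, range_subIncl]; exact Set.inter_subset_left)
      obtain ⟨q, hq⟩ := hom_fac g hg (subIncl V.obj.left (O₁ ∩ G) (hO₁.inter hGo))
        (by rw [range_subIncl, hgr]; exact Set.inter_subset_right)
      have hk₁o := openImm_of_fac hj (repWith_subIncl _ _ hO₁) hk₁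
      have hk₂o := openImm_of_fac hj hg hk₂
      have hinj := (ASp.isEmbedding_of_immersion V.obj.left.property (ASp.repWith_mono
        (fun _ _ k (hk : IsOpenImmersion k) => inferInstanceAs (IsImmersion k)) hj)).1.injective
      have hBV := (h3 V T ‹_› ⟨e⟩).1
      refine h4 U U₁ U₂ U₃
        (mkHom k₁ (show k₁ ≫ U.obj.hom = subIncl _ _ hO₁ ≫ V.obj.hom by rw [← hk₁, Category.assoc, over_w]))
        (mkHom k₂ (show k₂ ≫ U.obj.hom = g ≫ V.obj.hom by rw [← hk₂, Category.assoc, over_w]))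
        (mkHom p (show p ≫ subIncl _ _ hO₁ ≫ V.obj.hom = subIncl _ _ _ ≫ V.obj.hom by rw [reassoc_of% hp]))
        (mkHom q (show q ≫ g ≫ V.obj.hom = subIncl _ _ _ ≫ V.obj.hom by rw [reassoc_of% hq]))
        (h2 V U j hBV hj (qc_of_range _ hj ?_)) (qc_of_range _ (repWith_subIncl _ _ hO₁) ?_)
        ⟨T', hT', ⟨Iso.refl _⟩⟩ ?_ ?_ ?_ (h3 U₂ T' hT' ⟨Iso.refl _⟩).2 ?_
      · rw [hcov]; exact (hbc a).union hO₁c
      · rw [range_subIncl]; exact hO₁c
      · refine isElemDistSq_of_cover k₁ hk₁o k₂.hom hk₂o (isEtaleMor_of_openImm' hk₂o) fun x hx => ?_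
        rcases hcov.subset ⟨x, rfl⟩ with h | h
        · obtain ⟨y, hy⟩ := hgr.symm.subset h
          refine ⟨y, hinj ?_⟩
          rw [← hy, ← hk₂]
          exact (Points.map_comp _ _ _).symm
        · obtain ⟨y, hy⟩ := (range_subIncl V.obj.left O₁ hO₁).symm.subset h
          refine (hx ⟨y, hinj ?_⟩).elim
          rw [← hy, ← hk₁]
          exact (Points.map_comp _ _ _).symm
      · refine isPullback_openImm hk₁o (openImm_of_fac hg (repWith_subIncl _ _ (hO₁.inter hGo)) hq) ?_ ?_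
        · have := mono_openImm hj
          rw [← cancel_mono j.hom.left.hom]
          simp only [Category.assoc, mkHom_hom, ← ObjectProperty.FullSubcategory.comp_hom, hk₁, hk₂, hp, hq]
        · rintro y ⟨z, hz⟩
          have h1 : Points.map g.hom y ∈ O₁ ∩ G := by
            refine ⟨?_, hgr.subset ⟨y, rfl⟩⟩
            rw [← range_subIncl V.obj.left O₁ hO₁]
            refine ⟨z, ?_⟩
            rw [← hk₁, ← hk₂]
            exact ((Points.map_comp _ _ _).trans (congrArg _ hz)).trans (Points.map_comp _ _ _).symm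
          obtain ⟨w, hw⟩ := (range_subIncl V.obj.left (O₁ ∩ G) (hO₁.inter hGo)).symm.subset h1
          refine ⟨w, (ASp.isEmbedding_of_immersion V.obj.left.property (ASp.repWith_mono
            (fun _ _ k (hk : IsOpenImmersion k) => inferInstanceAs (IsImmersion k)) hg)).1.injective ?_⟩
          exact ((Points.map_comp _ _ _).symm.trans
            (congrArg (fun m : _ ⟶ V.obj.left => Points.map m.hom w) hq)).trans hw
      · exact ih t hs U₁ (mkHom (subIncl V.obj.left O₁ hO₁) rfl) (repWith_subIncl _ _ hO₁) (range_subIncl _ _ hO₁)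
      · exact ih (t.map (· * a)) (by simpa using hs) U₃
          (mkHom (subIncl V.obj.left (O₁ ∩ G) (hO₁.inter hGo)) rfl) (repWith_subIncl _ _ _)
          ((range_subIncl _ _ _).trans hI)

theorem exists_list_bopen (T : Over S) [IsAffine T.left] {Q : Set (Points ((yon S).obj T))} (hQ : IsOpen Q)
    (hQc : IsCompact Q) : ∃ s : List Γ(T.left, ⊤), Q = ⋃ a ∈ s, bopen T a := by
  classical
  obtain ⟨s, hs⟩ := hQc.elim_finite_subcover (fun a : {a : Γ(T.left, ⊤) // bopen T a ⊆ Q} => bopen T a.1)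
    (fun a => isOpen_bopen T _) (fun x hx => by
      obtain ⟨y, rfl⟩ := (Points.schemeHomeo T).surjective x
      let O : T.left.Opens := ⟨Points.schemeHomeo T ⁻¹' Q, hQ.preimage (Points.schemeHomeo T).continuous⟩
      obtain ⟨a, ha, hy⟩ := (isAffineOpen_top T.left).exists_basicOpen_le (V := O) ⟨y, hx⟩ trivial
      exact Set.mem_iUnion.2 ⟨⟨a, by rintro _ ⟨z, hz, rfl⟩; exact ha hz⟩, y, hy, rfl⟩)
  refine ⟨(s.image Subtype.val).toList, le_antisymm (hs.trans ?_) ?_⟩
  · intro x hx
    obtain ⟨a, ha, hxa⟩ := Set.mem_iUnion₂.1 hx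
    exact Set.mem_iUnion₂.2 ⟨a.1, by simpa using ⟨a.2, ha⟩, hxa⟩
  · intro x hx
    obtain ⟨a, ha, hxa⟩ := Set.mem_iUnion₂.1 hx
    obtain ⟨h, -⟩ : ∃ h : bopen T a ⊆ Q, ⟨a, h⟩ ∈ s := by simpa using ha
    exact h hxa

/-- The induction principle for a class of spaces stable under open subspaces. -/
theorem induction_principle [QuasiSeparatedSpace ↥S]
    (h1 : ∀ W, B W → IsQuasiCompactSp W.obj.left.obj ∧ IsQuasiSeparatedSp W.obj.left.obj)
    (h2 : OpenClosed B) (h3 : AffineCase B P) (h4 : GlueCase B P) (W : EtSpOver X) (hW : B W) : P W := by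
  refine (enlarge W.obj.left (h1 W hW).1 (h1 W hW).2 ∅ isOpen_empty isCompact_empty
    (fun O => ∀ (U : EtSpOver X) (j : U ⟶ W), RepWith @IsOpenImmersion j.hom.left.hom →
      Set.range (Points.map j.hom.left.hom) = O → P U) ?_ ?_) W (𝟙 W) ?_ ?_
  · intro U j _ hr
    exact of_empty h3 U ⟨fun x => hr.subset ⟨x, rfl⟩⟩
  · intro O hO O' hOc _ _ hOc' hP hsq U j hj hr
    obtain ⟨T, g, κ, hT, hκ, hge, hd⟩ := hsq U.obj.left j.hom.left hj hr
    have hBU : B U := h2 W U j hW hj (qc_of_range _ hj (hr ▸ hOc'))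
    haveI := mono_openImm hj
    have hge' : RepWith @Etale g := repWith_of_comp_mono rfl hge
    let g' : (AlgSp.ofScheme S).obj T ⟶ U.obj.left := ObjectProperty.homMk g
    let U₁ := ov W (subIncl W.obj.left O hO) (isEtaleMor_of_openImm' (repWith_subIncl _ _ hO))
    let V := ov U g' (isEtaleMor_of_repWith _ hge')
    have hκo := openImm_of_fac hj (repWith_subIncl _ _ hO) hκ
    let Q : Set (Points ((yon S).obj T)) := Points.map g ⁻¹' Set.range (Points.map κ.hom)
    have hQ : IsOpen Q := (isOpen_range_openImm hκo).preimage (Points.continuous_map _)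
    have hκc : IsCompact (Set.range (Points.map κ.hom)) :=
      isCompact_range κ (qc_of_range _ (repWith_subIncl _ _ hO) (by rw [range_subIncl]; exact hOc))
    have hQc : IsCompact Q := ASp.isCompact_preimage_of_qcMor U.obj.left.property
      (Groth.Agent.S9920.result g' ASp.isQuasiCompactSp_yon (h1 U hBU).2) (isOpen_range_openImm hκo) hκc
    let UV := ov V (subIncl ((AlgSp.ofScheme S).obj T) Q hQ) (isEtaleMor_of_openImm' (repWith_subIncl _ _ hQ))
    obtain ⟨p, hp⟩ := hom_fac κ hκo (subIncl ((AlgSp.ofScheme S).obj T) Q hQ ≫ g') (by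
      rintro _ ⟨x, rfl⟩
      have := (range_subIncl ((AlgSp.ofScheme S).obj T) Q hQ).subset ⟨x, rfl⟩
      rw [ObjectProperty.FullSubcategory.comp_hom, Points.map_comp]
      exact this)
    refine h4 U U₁ V UV
      (mkHom κ (show κ ≫ U.obj.hom = subIncl _ _ hO ≫ W.obj.hom by rw [← over_w j, reassoc_of% hκ]))
      (mkHom g' rfl)
      (mkHom p (show p ≫ subIncl _ _ hO ≫ W.obj.hom = subIncl _ _ hQ ≫ g' ≫ U.obj.hom by
        rw [← over_w j, ← reassoc_of% hκ, reassoc_of% hp]))
      (mkHom (subIncl ((AlgSp.ofScheme S).obj T) Q hQ) rfl)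
      hBU (qc_of_range _ (repWith_subIncl _ _ hO) (by rw [range_subIncl]; exact hOc))
      ⟨T, hT, ⟨Iso.refl _⟩⟩ hd ?_
      (hP U₁ (mkHom (subIncl W.obj.left O hO) rfl) (repWith_subIncl _ _ hO) (range_subIncl _ _ hO))
      (h3 V T hT ⟨Iso.refl _⟩).2 ?_
    · refine isPullback_openImm hκo (repWith_subIncl _ _ hQ) (congrArg InducedCategory.Hom.hom hp) ?_
      exact (range_subIncl ((AlgSp.ofScheme S).obj T) Q hQ).symm.subset
    · haveI := hT
      obtain ⟨s, hs⟩ := exists_list_bopen T hQ hQc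
      refine of_opens_of_affine h2 h3 h4 V T (Iso.refl _) s.length s le_rfl UV
        (mkHom (subIncl ((AlgSp.ofScheme S).obj T) Q hQ) rfl) (repWith_subIncl _ _ hQ)
        ((range_subIncl _ _ hQ).trans ?_)
      rw [hs]
      simp [Points.map_id]
  · exact (repWith_isMultiplicative (S := S) @IsOpenImmersion).id_mem _
  · exact Set.range_eq_univ.2 fun x => ⟨x, Points.map_id _⟩

end EtSp

end Groth.Agent.AlgSpInd
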