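import Groth.Agent.AlgSpInd.Step
import Groth.Agent.S10419
import Groth.Agent.ASp.InvOpen

/-! Enlarging compact opens by affine étale charts. -/

set_option autoImplicit false
set_option backward.isDefEq.respectTransparency false
set_option backward.isDefEq.respectTransparency.types false
universe u

open CategoryTheory CategoryTheory.Limits AlgebraicGeometry Opposite
open _root_.AlgSp

namespace Groth.Agent.AlgSpInd

variable {S : Scheme.{u}}

theorem isOpen_range_openImm {A B : Sp S} {j : A ⟶ B} (hj : RepWith @IsOpenImmersion j) :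
    IsOpen (Set.range (Points.map j)) :=
  (ASp.isOpenMap_map_of_repWith (fun k hk => by
    haveI : IsOpenImmersion k := hk
    exact k.isOpenEmbedding.isOpenMap) hj).isOpen_range

/-- Every compact open is enlarged to the whole space by elementary distinguished squares with affine corner. -/
theorem enlarge [QuasiSeparatedSpace ↥S] (X : AlgSp.Space S) (hqc : IsQuasiCompactSp X.obj)
    (hqs : IsQuasiSeparatedSp X.obj) (O₀ : Set (Points X.obj)) (hO₀ : IsOpen O₀) (hc₀ : IsCompact O₀)
    (P : Set (Points X.obj) → Prop) (h0 : P O₀)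
    (step : ∀ (O : Set (Points X.obj)) (hO : IsOpen O) (O' : Set (Points X.obj)), IsCompact O → O₀ ⊆ O →
      IsOpen O' → IsCompact O' → P O →
      (∀ (W₂ : AlgSp.Space S) (j₂ : W₂ ⟶ X), RepWith @IsOpenImmersion j₂.hom →
        Set.range (Points.map j₂.hom) = O' →
        ∃ (T : Over S) (g : (yon S).obj T ⟶ W₂.obj) (κ : sub X O hO ⟶ W₂), IsAffine T.left ∧
          κ ≫ j₂ = subIncl X O hO ∧ RepWith @Etale (g ≫ j₂.hom) ∧ IsElemDistSq κ.hom g) →
      P O') :
    P Set.univ := by
  obtain ⟨n, Uo, j, k, T, i, hj, hkj, hj1, hempty, hred, hV⟩ := Groth.Agent.S10419.result X hqc hqs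
  have hR : ∀ p, IsOpen (Set.range (Points.map (j p).hom)) := fun p => isOpen_range_openImm (hj p)
  have key : ∀ m, ∀ p, p + m = n + 1 → 1 ≤ p →
      IsCompact (Set.range (Points.map (j p).hom)) ∧ P (O₀ ∪ Set.range (Points.map (j p).hom)) := by
    intro m
    induction m with
    | zero =>
      intro p hp _
      obtain rfl : p = n + 1 := by omega
      have e : Set.range (Points.map (j (n + 1)).hom) = ∅ := Set.range_eq_empty _
      rw [e, Set.union_empty]
      exact ⟨isCompact_empty, h0⟩
    | succ m ih =>
      intro p hp hp1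
      obtain ⟨hcp, hP⟩ := ih (p + 1) (by omega) (by omega)
      obtain ⟨V, f, -, hVc, hf, hfs, hiso⟩ := hV p hp1
      have hsub : Set.range (Points.map (j (p + 1)).hom) ⊆ Set.range (Points.map (j p).hom) := by
        rintro _ ⟨x, rfl⟩
        rw [← hkj p]
        exact ⟨Points.map (k p).hom x, (Points.map_comp _ _ _).symm⟩
      have hrange : Set.range (Points.map (j p).hom) = Set.range (Points.ofPt (f ≫ (j p).hom)) := by
        ext x
        constructor
        · rintro ⟨y, rfl⟩
          obtain ⟨v, rfl⟩ := ASp.surjective_ofPt hfs y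
          exact ⟨v, (Points.map_ofPt _ _ _).symm⟩
        · rintro ⟨v, rfl⟩
          exact ⟨Points.ofPt f v, Points.map_ofPt _ _ _⟩
      refine ⟨by rw [hrange]; exact isCompact_range (Points.continuous_ofPt _), ?_⟩
      let 𝒰 := V.left.affineCover
      let Va : 𝒰.I₀ → Over S := fun a => Over.mk (𝒰.f a ≫ V.hom)
      let ιa : ∀ a, Va a ⟶ V := fun a => Over.homMk (𝒰.f a) rfl
      haveI : ∀ a, IsOpenImmersion (ιa a).left := fun a => inferInstanceAs (IsOpenImmersion (𝒰.f a))
      let G : 𝒰.I₀ → Set (Points X.obj) := fun a => Set.range (Points.map ((yon S).map (ιa a) ≫ f ≫ (j p).hom))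
      have hje : RepWith @Etale (f ≫ (j p).hom) :=
        ASp.repWith_comp (P := @Etale) hf
          (ASp.repWith_mono (fun _ _ k (hk : IsOpenImmersion k) => inferInstanceAs (Etale k)) (hj p))
      have hga : ∀ a, RepWith @Etale ((yon S).map (ιa a) ≫ f ≫ (j p).hom) := fun a =>
        ASp.repWith_comp (P := @Etale) (ASp.repWith_yon_map (P := @Etale) (g := ιa a)
          (inferInstanceAs (Etale (ιa a).left))) hje
      have hGo : ∀ a, IsOpen (G a) := fun a => (ASp.isOpenMap_map_of_etale (hga a)).isOpen_range
      haveI : ∀ a, CompactSpace ↥(Va a).left := fun a => inferInstanceAs (CompactSpace ↥(𝒰.X a))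
      have hGc : ∀ a, IsCompact (G a) := fun a => by
        haveI : CompactSpace (Points ((yon S).obj (Va a))) := (Points.schemeHomeo (Va a)).compactSpace
        exact isCompact_range (Points.continuous_map _)
      obtain ⟨s, hs⟩ := isCompact_univ.elim_finite_subcover (fun a => Set.range (𝒰.f a))
        (fun a => (𝒰.f a).isOpenEmbedding.isOpen_range)
        (fun x _ => Set.mem_iUnion.2 ⟨𝒰.idx x, 𝒰.covers x⟩)
      have hfin : ∀ t : Finset 𝒰.I₀,
          P ((O₀ ∪ Set.range (Points.map (j (p + 1)).hom)) ∪ ⋃ a ∈ t, G a) := by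
        intro t
        classical
        induction t using Finset.induction with
        | empty => simpa using hP
        | insert a t _ iht =>
          let O : Set (Points X.obj) := (O₀ ∪ Set.range (Points.map (j (p + 1)).hom)) ∪ ⋃ b ∈ t, G b
          have hO : IsOpen O := (hO₀.union (hR _)).union (isOpen_biUnion fun b _ => hGo b)
          have hOc : IsCompact O := (hc₀.union hcp).union (t.isCompact_biUnion fun b _ => hGc b)
          have e : (O₀ ∪ Set.range (Points.map (j (p + 1)).hom)) ∪ ⋃ b ∈ insert a t, G b = O ∪ G a := by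
            rw [Finset.set_biUnion_insert]
            ext x
            simp only [O, Set.mem_union]
            tauto
          rw [e]
          refine step O hO _ hOc (fun x hx => Or.inl (Or.inl hx)) (hO.union (hGo a)) (hOc.union (hGc a)) iht ?_
          intro W₂ j₂ hj₂ hr
          obtain ⟨g, hg⟩ := exists_fac_openImm hj₂ ((yon S).map (ιa a) ≫ f ≫ (j p).hom)
            (by rw [hr]; exact fun x hx => Or.inr hx)
          obtain ⟨κ, hκ⟩ := exists_fac_openImm hj₂ (subIncl X O hO).hom
            (by rw [hr, range_subIncl]; exact fun x hx => Or.inl hx)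
          refine ⟨Va a, g, ObjectProperty.homMk κ, inferInstanceAs (IsAffine (𝒰.X a)),
            ObjectProperty.hom_ext _ hκ, hg ▸ hga a, ?_⟩
          refine isElemDistSq_step (hj p) (hred p) f hf hiso (ιa a) _ (repWith_subIncl X O hO) j₂ hj₂ ?_ ?_
            (ObjectProperty.homMk κ) (ObjectProperty.hom_ext _ hκ) g hg
          · rw [compl_compl, range_subIncl]
            rintro _ ⟨_, ⟨x, rfl⟩, rfl⟩
            refine Or.inl (Or.inr ⟨x, ?_⟩)
            rw [← hkj p]
            exact Points.map_comp _ _ _
          · rw [hr, range_subIncl]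
      refine (congrArg P ?_).mp (hfin s)
      apply le_antisymm
      · rintro x ((h | h) | h)
        · exact Or.inl h
        · exact Or.inr (hsub h)
        · obtain ⟨a, -, y, rfl⟩ := Set.mem_iUnion₂.1 h
          refine Or.inr ⟨Points.map ((yon S).map (ιa a) ≫ f) y, ?_⟩
          rw [← Points.map_comp, Category.assoc]
      · rintro x (h | h)
        · exact Or.inl (Or.inl h)
        · rw [hrange] at h
          obtain ⟨v, rfl⟩ := h
          obtain ⟨a, has, w, rfl⟩ := Set.mem_iUnion₂.1 (hs (Set.mem_univ v))
          refine Or.inr (Set.mem_iUnion₂.2 ⟨a, has, Points.schemeHomeo (Va a) w, ?_⟩)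
          rw [Points.map_comp, Points.map_yon_map_apply, ASp.ofPt_comp_eq_map]
          rfl
  obtain ⟨-, h⟩ := key n 1 (by omega) le_rfl
  rwa [show Set.range (Points.map (j 1).hom) = Set.univ from Set.range_eq_univ.2 fun x =>
    ⟨Points.map (inv (j 1)).hom x, by
      rw [← Points.map_comp, ← ObjectProperty.FullSubcategory.comp_hom, IsIso.inv_hom_id,
        ObjectProperty.FullSubcategory.id_hom, Points.map_id]⟩, Set.union_univ] at h

end Groth.Agent.AlgSpInd
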