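import Groth.Agent.AlgSpInd.Main
import Groth.Agent.ASp.QfChartLem
import Groth.Agent.ASp.Glue
import Groth.Agent.ASp.EqvQuot
import Groth.Agent.ASp.NoethFibre

/-! An affine elementary square enlarging a dense open subspace. -/

set_option autoImplicit false
set_option backward.isDefEq.respectTransparency false
set_option backward.isDefEq.respectTransparency.types false
universe u

open CategoryTheory CategoryTheory.Limits AlgebraicGeometry Opposite TopologicalSpace
open _root_.AlgSp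

namespace Groth.Agent.AlgSpInd

variable {S : Scheme.{u}}

/-- An elementary square stays one when the corner is enlarged by pieces lying over the open. -/
theorem isElemDistSq_extend {U V V' W : Sp S} {κ : U ⟶ W} {g : V ⟶ W} (hd : IsElemDistSq κ g)
    {ι : V ⟶ V'} (hι : RepWith @IsOpenImmersion ι) {g' : V' ⟶ W} (hg' : IsEtaleMor g') (h : ι ≫ g' = g)
    (hout : ∀ v, v ∈ Set.range (Points.map ι) ∨ Points.map g' v ∈ Set.range (Points.map κ)) :
    IsElemDistSq κ g' := by
  obtain ⟨T, P, i, p₁, p₂, hi, sqP, hiso⟩ := hd.2.2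
  obtain ⟨P', q₁, q₂, sqQ⟩ : ∃ (P' : Sp S) (q₁ : P' ⟶ T) (q₂ : P' ⟶ V'), IsPullback q₁ q₂ i g' :=
    ⟨_, _, _, IsPullback.of_hasPullback _ _⟩
  refine ⟨hd.1, hg', T, P', i, q₁, q₂, hi, sqQ, ?_⟩
  refine ⟨sqQ.lift (𝟙 T) (inv p₁ ≫ p₂ ≫ ι) (by
    simp only [Category.id_comp, Category.assoc, h, ← sqP.w, IsIso.inv_hom_id_assoc]), ?_, sqQ.lift_fst _ _ _⟩
  obtain ⟨k, hk⟩ := exists_fac_openImm hι q₂ (by
    rintro _ ⟨x, rfl⟩
    refine (hout _).resolve_right fun hm => ?_
    rw [← Points.map_comp, ← sqQ.w, Points.map_comp] at hm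
    exact (hi.2.1.subset ⟨_, rfl⟩) hm)
  have hc : q₁ ≫ i = k ≫ g := by rw [← h, reassoc_of% hk, sqQ.w]
  refine sqQ.hom_ext (by simp) ?_
  refine ((Category.assoc _ _ _).trans (congrArg (q₁ ≫ ·) (sqQ.lift_snd _ _ _))).trans ?_
  rw [Category.id_comp, ← hk, ← sqP.lift_snd _ _ hc]
  have e : sqP.lift q₁ k hc = q₁ ≫ inv p₁ := by rw [← cancel_mono p₁, sqP.lift_fst]; simp
  rw [e]
  simp

/-- A dense open subspace of a Noetherian space is enlarged by an affine elementary square with dominant overlap. -/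
theorem exists_enlarging [QuasiSeparatedSpace ↥S] {X U : AlgSp.Space S}
    (hqc : IsQuasiCompactSp X.obj) (hqs : IsQuasiSeparatedSp X.obj) (hN : IsLocNoethSp X.obj)
    (j : U ⟶ X) (hj : RepWith @IsOpenImmersion j.hom)
    (hne : Set.range (Points.map j.hom) ≠ Set.univ) :
    ∃ (V : Over S) (_ : IsAffine V.left) (W : AlgSp.Space S) (jW : W ⟶ X) (jU : U ⟶ W)
      (φ : (AlgSp.ofScheme S).obj V ⟶ W) (P : AlgSp.Space S) (p : P ⟶ U) (q : P ⟶ (AlgSp.ofScheme S).obj V),
      RepWith @Etale (φ ≫ jW).hom ∧ RepWith @IsOpenImmersion jW.hom ∧ jU ≫ jW = j ∧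
        Set.range (Points.map jW.hom) =
          Set.range (Points.map j.hom) ∪ Set.range (Points.map (φ ≫ jW).hom) ∧
        Set.range (Points.map jW.hom) ≠ Set.range (Points.map j.hom) ∧
        IsElemDistSq jU.hom φ.hom ∧ IsPullback p.hom q.hom jU.hom φ.hom ∧ IsDominantMor p.hom := by
  classical
  -- the open is quasi-compact
  have hUc : CompactSpace (Points U.obj) := by
    haveI := ASp.compactSpace_of_isQuasiCompactSp hqc
    obtain ⟨A, a, hA, ha, has⟩ := ASp.exists_affine_chart X.property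
    haveI := hA
    haveI := ASp.isLocallyNoetherian_of_chart hN ha
    haveI : NoetherianSpace ↥A.left := @noetherianSpace_of_isAffine A.left _
      (IsLocallyNoetherian.component_noetherian ⟨⊤, isAffineOpen_top _⟩)
    refine ASp.compactSpace_of_isQuasiCompactSp (qc_of_range j hj ?_)
    rw [← Set.image_preimage_eq (Set.range (Points.map j.hom)) (ASp.surjective_ofPt has)]
    exact (NoetherianSpace.isCompact _).image (Points.continuous_ofPt a)
  obtain ⟨Z, a₀, hZ, ha₀, ha₀s⟩ := ASp.exists_affine_chart U.property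
  -- the stratum to be added
  obtain ⟨n, Uo, jo, k, T, i, hjo, hkj, hj1, hempty, hred, hV⟩ := Groth.Agent.S10419.result X hqc hqs
  have hex : ∃ m, Set.range (Points.map (jo (m + 1)).hom) ⊆ Set.range (Points.map j.hom) :=
    ⟨n, by rw [Set.range_eq_empty]; exact Set.empty_subset _⟩
  obtain ⟨m, hm⟩ : ∃ m, Nat.find hex = m + 1 := by
    refine Nat.exists_eq_succ_of_ne_zero fun h0 => hne (Set.univ_subset_iff.1 fun x _ => ?_)
    refine (h0 ▸ Nat.find_spec hex) ⟨Points.map (inv (jo 1)).hom x, ?_⟩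
    rw [← Points.map_comp, ← ObjectProperty.FullSubcategory.comp_hom, IsIso.inv_hom_id,
      ObjectProperty.FullSubcategory.id_hom, Points.map_id]
  have hsucc : Set.range (Points.map (jo (m + 1 + 1)).hom) ⊆ Set.range (Points.map j.hom) :=
    hm ▸ Nat.find_spec hex
  obtain ⟨_, ⟨y, rfl⟩, hy⟩ := Set.not_subset.1 (Nat.find_min hex (show m < Nat.find hex by omega))
  obtain ⟨V₀, f, -, -, hf, hfs, hiso⟩ := hV (m + 1) (Nat.succ_pos _)
  obtain ⟨v, rfl⟩ := ASp.surjective_ofPt hfs y
  obtain ⟨O, hO, hvO, -⟩ := exists_isAffineOpen_mem_and_subset (x := v) (U := ⊤) trivial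
  let Va : Over S := Over.mk (O.ι ≫ V₀.hom)
  let ιa : Va ⟶ V₀ := Over.homMk O.ι rfl
  haveI : IsOpenImmersion ιa.left := inferInstanceAs (IsOpenImmersion O.ι)
  haveI : IsAffine Va.left := hO
  have hje : RepWith @Etale j.hom :=
    ASp.repWith_mono (fun _ _ k (hk : IsOpenImmersion k) => inferInstanceAs (Etale k)) hj
  have hg₁ : RepWith @Etale ((yon S).map ιa ≫ f ≫ (jo (m + 1)).hom) :=
    ASp.repWith_comp (P := @Etale) (ASp.repWith_yon_map (P := @Etale) (g := ιa) (inferInstanceAs (Etale ιa.left)))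
      (ASp.repWith_comp (P := @Etale) hf
        (ASp.repWith_mono (fun _ _ k (hk : IsOpenImmersion k) => inferInstanceAs (Etale k)) (hjo _)))
  -- the disjoint union
  let D : ULift.{u} Bool → Over S := fun b => cond b.down Va Z
  haveI : ∀ b, IsAffine (D b).left := fun b => by
    rcases b with ⟨_ | _⟩ <;> assumption
  let VL : ULift.{u} Bool → Scheme.{u} := fun b => (D b).left
  haveI : ∀ b, IsAffine (VL b) := fun b => inferInstanceAs (IsAffine (D b).left)
  let str : ∐ VL ⟶ S := Sigma.desc fun b => (D b).hom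
  let V : Over S := Over.mk str
  haveI : IsAffine V.left := inferInstanceAs (IsAffine (∐ VL))
  let ζ : ∀ b, D b ⟶ V := fun b => Over.homMk (Sigma.ι VL b) (Sigma.ι_desc _ _)
  let gs : ∀ b, (yon S).obj (D b) ⟶ X.obj := fun b =>
    match b with
    | ⟨true⟩ => (yon S).map ιa ≫ f ≫ (jo (m + 1)).hom
    | ⟨false⟩ => a₀ ≫ j.hom
  obtain ⟨g, hg⟩ := ASp.exists_sigma_desc V D ζ rfl (fun b => Category.comp_id _) gs
  have hge : RepWith @Etale g := by
    refine ASp.repWith_of_sigma @Etale X.property.diag str g fun b => ?_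
    let e : Over.mk (Sigma.ι VL b ≫ str) ⟶ D b := Over.homMk (𝟙 _) (by
      show 𝟙 _ ≫ (D b).hom = Sigma.ι VL b ≫ str
      rw [Category.id_comp, Sigma.ι_desc])
    have he : (Over.homMk (Sigma.ι VL b) rfl : Over.mk (Sigma.ι VL b ≫ str) ⟶ V) = e ≫ ζ b :=
      Over.OverMorphism.ext (Category.id_comp _).symm
    rw [he, Functor.map_comp, Category.assoc, hg]
    refine ASp.repWith_comp (P := @Etale) (ASp.repWith_yon_map (P := @Etale) (g := e)
      (inferInstanceAs (Etale (𝟙 (VL b))))) ?_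
    rcases b with ⟨_ | _⟩
    · exact ASp.repWith_comp (P := @Etale) ha₀ hje
    · exact hg₁
  have hpts : ∀ w : Points ((yon S).obj V), ∃ b, w ∈ Set.range (Points.map ((yon S).map (ζ b))) := by
    intro w
    obtain ⟨w, rfl⟩ := (Points.schemeHomeo V).surjective w
    let 𝒰 := sigmaOpenCover VL
    exact ⟨𝒰.idx w, Points.schemeHomeo _ (𝒰.covers w).choose,
      (Points.map_yon_map_apply _ _).trans (congrArg _ (𝒰.covers w).choose_spec)⟩
  have hζo : ∀ b, RepWith @IsOpenImmersion ((yon S).map (ζ b)) := fun b =>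
    ASp.repWith_yon_map (P := @IsOpenImmersion) (g := ζ b) (inferInstanceAs (IsOpenImmersion (Sigma.ι VL b)))
  -- the enlarged open
  let O' : Set (Points X.obj) :=
    Set.range (Points.map j.hom) ∪ Set.range (Points.map ((yon S).map ιa ≫ f ≫ (jo (m + 1)).hom))
  have hO' : IsOpen O' := (isOpen_range_openImm hj).union (ASp.isOpenMap_map_of_etale hg₁).isOpen_range
  have hgs : ∀ b, Set.range (Points.map (gs b)) ⊆ O' := by
    rintro ⟨_ | _⟩ _ ⟨x, rfl⟩
    · exact Or.inl ⟨Points.map a₀ x, (Points.map_comp _ _ _).symm⟩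
    · exact Or.inr ⟨x, rfl⟩
  have hgr : Set.range (Points.map g) ⊆ O' := by
    rintro _ ⟨w, rfl⟩
    obtain ⟨b, x, rfl⟩ := hpts w
    rw [← Points.map_comp, hg]
    exact hgs b ⟨x, rfl⟩
  let W := sub X O' hO'
  let jW : W ⟶ X := subIncl X O' hO'
  obtain ⟨jU, hjU⟩ := hom_fac jW (repWith_subIncl X O' hO') j
    (by rw [range_subIncl]; exact Set.subset_union_left)
  obtain ⟨φ, hφ⟩ := hom_fac jW (repWith_subIncl X O' hO') (ObjectProperty.homMk g : (AlgSp.ofScheme S).obj V ⟶ X)
    (by rw [range_subIncl]; exact hgr)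
  have hφh : φ.hom ≫ jW.hom = g := congrArg InducedCategory.Hom.hom hφ
  have hjUh : jU.hom ≫ jW.hom = j.hom := congrArg InducedCategory.Hom.hom hjU
  have hjUo := openImm_of_fac (repWith_subIncl X O' hO') hj hjU
  haveI := mono_openImm (repWith_subIncl X O' hO')
  have hφe : RepWith @Etale φ.hom := repWith_of_comp_mono hφh hge
  have hinj := (ASp.isEmbedding_of_immersion X.property (ASp.repWith_mono
    (fun _ _ k (hk : IsOpenImmersion k) => inferInstanceAs (IsImmersion k)) (repWith_subIncl X O' hO'))).1.injective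
  let Q : Set (Points ((yon S).obj V)) := Points.map φ.hom ⁻¹' Set.range (Points.map jU.hom)
  have hQ : IsOpen Q := (isOpen_range_openImm hjUo).preimage (Points.continuous_map _)
  let P := sub ((AlgSp.ofScheme S).obj V) Q hQ
  let q : P ⟶ (AlgSp.ofScheme S).obj V := subIncl ((AlgSp.ofScheme S).obj V) Q hQ
  obtain ⟨p, hp⟩ := hom_fac jU hjUo (q ≫ φ) (by
    rintro _ ⟨x, rfl⟩
    rw [ObjectProperty.FullSubcategory.comp_hom, Points.map_comp]
    exact (range_subIncl ((AlgSp.ofScheme S).obj V) Q hQ).subset ⟨x, rfl⟩)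
  have hpb : IsPullback p.hom q.hom jU.hom φ.hom :=
    isPullback_openImm hjUo (repWith_subIncl _ _ hQ) (congrArg InducedCategory.Hom.hom hp)
      (range_subIncl ((AlgSp.ofScheme S).obj V) Q hQ).symm.subset
  have hz : a₀ ≫ jU.hom ≫ (subIncl X O' hO').hom =
      (yon S).map (ζ ⟨false⟩) ≫ φ.hom ≫ (subIncl X O' hO').hom :=
    (congrArg (a₀ ≫ ·) hjUh).trans ((congrArg (_ ≫ ·) hφh).trans (hg ⟨false⟩)).symm
  refine ⟨V, ‹_›, W, jW, jU, φ, P, p, q, ?_, repWith_subIncl X O' hO', hjU, ?_, ?_, ?_, hpb, ?_⟩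
  · rw [ObjectProperty.FullSubcategory.comp_hom, hφh]; exact hge
  · rw [range_subIncl, ObjectProperty.FullSubcategory.comp_hom, hφh]
    refine le_antisymm ?_ (Set.union_subset Set.subset_union_left hgr)
    refine Set.union_subset_union_right _ ?_
    rintro _ ⟨x, rfl⟩
    exact ⟨Points.map ((yon S).map (ζ ⟨true⟩)) x, by rw [← Points.map_comp, hg]⟩
  · intro e
    refine hy (e.subset ?_)
    rw [range_subIncl]
    refine Or.inr ⟨Points.schemeHomeo Va ⟨v, hvO⟩, ?_⟩
    show Points.map ((yon S).map ιa ≫ f ≫ (jo (m + 1)).hom) _ = _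
    rw [Points.map_comp, Points.map_comp, Points.map_yon_map_apply, ASp.ofPt_comp_eq_map f]
    rfl
  · obtain ⟨g₁, hg₁'⟩ : ∃ g₁, g₁ = (yon S).map (ζ ⟨true⟩) ≫ φ.hom := ⟨_, rfl⟩
    have hg₁'' : g₁ ≫ jW.hom = (yon S).map ιa ≫ f ≫ (jo (m + 1)).hom := by
      rw [hg₁', Category.assoc, hφh, hg]
    have hd₁ : IsElemDistSq jU.hom g₁ := by
      refine isElemDistSq_step (hjo _) (hred _) f hf hiso ιa j hj jW (repWith_subIncl X O' hO') ?_
        (range_subIncl X O' hO') jU hjU g₁ hg₁''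
      rw [compl_compl]
      rintro _ ⟨_, ⟨x, rfl⟩, rfl⟩
      refine hsucc ⟨x, ?_⟩
      rw [← hkj (m + 1)]
      exact Points.map_comp _ _ _
    refine isElemDistSq_extend hd₁ (hζo ⟨true⟩) (isEtaleMor_of_repWith _ hφe) hg₁'.symm fun w => ?_
    obtain ⟨⟨_ | _⟩, x, rfl⟩ := hpts w
    · refine Or.inr ⟨Points.map a₀ x, hinj ?_⟩
      simp only [← Points.map_comp, Category.assoc, hz]
    · exact Or.inl ⟨x, rfl⟩
  · refine Function.Surjective.denseRange fun u => ?_
    obtain ⟨z, rfl⟩ := ASp.surjective_ofPt ha₀s u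
    let w : Points ((yon S).obj V) := Points.map ((yon S).map (ζ ⟨false⟩)) (Points.schemeHomeo Z z)
    have hw : Points.map jU.hom (Points.ofPt a₀ z) = Points.map φ.hom w := by
      refine hinj ?_
      simp only [w, ← Points.map_comp, Category.assoc]
      rw [ASp.ofPt_comp_eq_map, Function.comp_apply, ← Points.map_comp]
      exact congrArg (fun h => Points.map h (Points.schemeHomeo Z z)) hz
    obtain ⟨r, hr⟩ := (range_subIncl ((AlgSp.ofScheme S).obj V) Q hQ).symm.subset
      (show w ∈ Q from ⟨_, hw⟩)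
    refine ⟨r, ?_⟩
    have hinjU := (ASp.isEmbedding_of_immersion W.property (ASp.repWith_mono
      (fun _ _ k (hk : IsOpenImmersion k) => inferInstanceAs (IsImmersion k)) hjUo)).1.injective
    refine hinjU ?_
    rw [hw, ← Points.map_comp, ← ObjectProperty.FullSubcategory.comp_hom, hp,
      ObjectProperty.FullSubcategory.comp_hom, Points.map_comp, hr]

end Groth.Agent.AlgSpInd
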