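import Groth.Prelude
import Groth.Agent.ASp.Points
import Groth.Agent.ASp.Morph
import Groth.Agent.ASp.Sub
import Groth.Agent.ASp.DecentPt
import Groth.Agent.ASp.RedSub
import Groth.Agent.ASp.RedFactor
import Groth.Agent.AlgSpQC.PullMain

/-! Elementary distinguished squares from stratifications. -/

set_option autoImplicit false
set_option backward.isDefEq.respectTransparency false
set_option backward.isDefEq.respectTransparency.types false
universe u

open CategoryTheory CategoryTheory.Limits AlgebraicGeometry Opposite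
open _root_.AlgSp

namespace Groth.Agent.AlgSpInd

variable {S : Scheme.{u}}

theorem mono_openImm {A B : Sp S} {j : A ⟶ B} (hj : RepWith @IsOpenImmersion j) : Mono j :=
  ASp.mono_of_repWith (fun g hg => by
    haveI : IsOpenImmersion g := hg
    infer_instance) hj

theorem exists_fac_openImm {A B G : Sp S} {j : A ⟶ B} (hj : RepWith @IsOpenImmersion j) (f : G ⟶ B)
    (h : Set.range (Points.map f) ⊆ Set.range (Points.map j)) : ∃ k : G ⟶ A, k ≫ j = f := by
  have := mono_openImm hj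
  obtain ⟨P, a, b, sq⟩ : ∃ (P : Sp S) (a : P ⟶ A) (b : P ⟶ G), IsPullback a b j f :=
    ⟨_, _, _, IsPullback.of_hasPullback _ _⟩
  have : Mono b := ⟨fun x y e => sq.hom_ext ((cancel_mono j).1 (by
    rw [Category.assoc, Category.assoc, sq.w, reassoc_of% e])) e⟩
  have : IsIso b := by
    refine ASp.isIso_of_mono_of_locallySurjective b ?_
    refine Presheaf.isLocallySurjective_of_surjective _ _ fun U s => ?_
    obtain ⟨x, rfl⟩ := (J S).uliftYonedaEquiv.{u+1}.surjective s
    obtain ⟨l, hl⟩ := ASp.exists_lift_openImm hj (x ≫ f) fun t => h ⟨Points.ofPt x t, Points.map_ofPt _ _ _⟩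
    have e : sq.lift l x hl ≫ b = x := sq.lift_snd _ _ _
    exact ⟨(J S).uliftYonedaEquiv.{u+1} (sq.lift l x hl),
      (show b.hom.app U ((J S).uliftYonedaEquiv.{u+1} (sq.lift l x hl)) =
        (J S).uliftYonedaEquiv.{u+1} (sq.lift l x hl ≫ b) from rfl).trans (congrArg _ e)⟩
  exact ⟨inv b ≫ a, by rw [Category.assoc, sq.w, IsIso.inv_hom_id_assoc]⟩

/-- An open subspace as a space. -/
noncomputable def sub (X : AlgSp.Space S) (O : Set (Points X.obj)) (hO : IsOpen O) : AlgSp.Space S :=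
  ⟨ASp.subSp X.obj O, ASp.isAlgSpace_subSp X.property hO⟩

/-- The inclusion of an open subspace. -/
noncomputable def subIncl (X : AlgSp.Space S) (O : Set (Points X.obj)) (hO : IsOpen O) : sub X O hO ⟶ X :=
  ObjectProperty.homMk (ASp.subι X.obj O)

theorem repWith_subIncl (X : AlgSp.Space S) (O : Set (Points X.obj)) (hO : IsOpen O) :
    RepWith @IsOpenImmersion (subIncl X O hO).hom :=
  ASp.repWith_subι X.obj O hO

theorem range_subIncl (X : AlgSp.Space S) (O : Set (Points X.obj)) (hO : IsOpen O) :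
    Set.range (Points.map (subIncl X O hO).hom) = O :=
  ASp.range_map_subι X.obj O

theorem repWith_of_comp_mono {P : MorphismProperty Scheme.{u}} [P.IsStableUnderBaseChange] {A B C : Sp S}
    {f : A ⟶ B} {i : B ⟶ C} [Mono i] {g : A ⟶ C} (h : f ≫ i = g) (hg : RepWith P g) : RepWith P f := by
  have sq : IsPullback (𝟙 A) f g i := by
    refine IsPullback.of_isLimit (PullbackCone.IsLimit.mk (by rw [Category.id_comp, h])
      (fun s => s.fst) (fun s => Category.comp_id _) (fun s => ?_) (fun s m hm _ => ?_))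
    · rw [← cancel_mono i, Category.assoc, h, s.condition]
    · exact (Category.comp_id _).symm.trans hm
  exact MorphismProperty.of_isPullback sq hg

/-- One step of the enlargement of an open subspace along a stratum. -/
theorem isElemDistSq_step {X : AlgSp.Space S} {U' T : Sp S} {j : U' ⟶ X.obj}
    (hj : RepWith @IsOpenImmersion j) {i : T ⟶ U'} {A : Set (Points U')} (hi : IsRedInduced A i)
    {V : Over S} (f : (yon S).obj V ⟶ U') (hf : RepWith @Etale f)
    (hiso : ∀ (P : Sp S) (fst : P ⟶ T) (snd : P ⟶ (yon S).obj V), IsPullback fst snd i f → IsIso fst)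
    {Va : Over S} (ιa : Va ⟶ V) [IsOpenImmersion ιa.left]
    {W₁ W₂ : AlgSp.Space S} (j₁ : W₁ ⟶ X) (hj₁ : RepWith @IsOpenImmersion j₁.hom)
    (j₂ : W₂ ⟶ X) (hj₂ : RepWith @IsOpenImmersion j₂.hom) (hA : Points.map j '' Aᶜ ⊆ Set.range (Points.map j₁.hom))
    (hOO' : Set.range (Points.map j₂.hom) =
      Set.range (Points.map j₁.hom) ∪ Set.range (Points.map ((yon S).map ιa ≫ f ≫ j)))
    (κ : W₁ ⟶ W₂) (hκ : κ ≫ j₂ = j₁)
    (g : (yon S).obj Va ⟶ W₂.obj) (hg : g ≫ j₂.hom = (yon S).map ιa ≫ f ≫ j) :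
    IsElemDistSq κ.hom g := by
  have := mono_openImm hj₂
  have := mono_openImm hj
  have hκ' : κ.hom ≫ j₂.hom = j₁.hom := congrArg InducedCategory.Hom.hom hκ
  have hκo : RepWith @IsOpenImmersion κ.hom := repWith_of_comp_mono hκ' hj₁
  have hge : RepWith @Etale g := by
    refine repWith_of_comp_mono hg (ASp.repWith_comp (P := @Etale) (ASp.repWith_yon_map (P := @Etale) (g := ιa) ?_)
      (ASp.repWith_comp (P := @Etale) hf (ASp.repWith_mono (fun _ _ k (hk : IsOpenImmersion k) => inferInstanceAs (Etale k)) hj)))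
    exact inferInstanceAs (Etale ιa.left)
  refine ⟨hκo, isEtaleMor_of_repWith g hge, ?_⟩
  have hcl : IsClosed (Set.range (Points.map κ.hom))ᶜ :=
    (ASp.isOpenMap_map_of_repWith (fun k hk => by
      haveI : IsOpenImmersion k := hk
      exact k.isOpenEmbedding.isOpenMap) hκo).isOpen_range.isClosed_compl
  obtain ⟨T', i', -, hi'⟩ := ASp.exists_redInduced W₂.property hcl
  obtain ⟨P', p₁, p₂, sqP⟩ : ∃ (P' : Sp S) (p₁ : P' ⟶ T') (p₂ : P' ⟶ (yon S).obj Va),
      IsPullback p₁ p₂ i' g := ⟨_, _, _, IsPullback.of_hasPullback _ _⟩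
  refine ⟨T', P', i', p₁, p₂, hi', sqP, ?_⟩
  let m := i' ≫ j₂.hom
  have hout : ∀ t, Points.map m t ∉ Set.range (Points.map j₁.hom) := by
    intro t ht
    obtain ⟨a, ha⟩ := ht
    rw [← hκ', Points.map_comp, Points.map_comp] at ha
    have ha' := (ASp.isEmbedding_of_immersion X.property (ASp.repWith_mono
      (fun _ _ k (hk : IsOpenImmersion k) => inferInstanceAs (IsImmersion k)) hj₂)).1.injective ha
    exact (hi'.2.1.subset ⟨t, rfl⟩) ⟨a, ha'⟩
  have hin : ∀ t, Points.map m t ∈ Set.range (Points.map ((yon S).map ιa ≫ f ≫ j)) := by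
    intro t
    have : Points.map m t ∈ Set.range (Points.map j₂.hom) :=
      ⟨Points.map i' t, (Points.map_comp _ _ _).symm⟩
    rw [hOO'] at this
    exact this.resolve_left (hout t)
  obtain ⟨r, hr⟩ := exists_fac_openImm hj m (by
    rintro _ ⟨t, rfl⟩
    obtain ⟨v, hv⟩ := hin t
    rw [← Category.assoc, Points.map_comp] at hv
    exact ⟨_, hv⟩)
  obtain ⟨t₀, ht₀⟩ := ASp.exists_lift_of_reduced hi'.2.2 hi.1 r (by
    rintro _ ⟨t, rfl⟩
    rw [hi.2.1]
    by_contra hc
    exact hout t (hA ⟨_, hc, by rw [← Points.map_comp, hr]⟩))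
  obtain ⟨Q, q₁, q₂, sqQ⟩ : ∃ (Q : Sp S) (q₁ : Q ⟶ T) (q₂ : Q ⟶ (yon S).obj V), IsPullback q₁ q₂ i f :=
    ⟨_, _, _, IsPullback.of_hasPullback _ _⟩
  have := hiso Q q₁ q₂ sqQ
  let q : T' ⟶ (yon S).obj V := t₀ ≫ inv q₁ ≫ q₂
  have hq : q ≫ f = r := by
    simp only [q, Category.assoc, ← sqQ.w]
    rw [IsIso.inv_hom_id_assoc, ht₀]
  have hιo : RepWith @IsOpenImmersion ((yon S).map ιa) := ASp.repWith_yon_map (P := @IsOpenImmersion) (g := ιa) ‹_›
  obtain ⟨qa, hqa⟩ := exists_fac_openImm hιo q (by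
    rintro _ ⟨t, rfl⟩
    obtain ⟨v, hv⟩ := hin t
    have hmf : Points.map f (Points.map ((yon S).map ιa) v) = Points.map i (Points.map t₀ t) := by
      have h2 : Points.map j (Points.map f (Points.map ((yon S).map ιa) v)) =
          Points.map j (Points.map i (Points.map t₀ t)) := by
        rw [← Points.map_comp, ← Points.map_comp, hv, ← Points.map_comp, ← Points.map_comp, ← Category.assoc, ht₀, hr]
      exact (ASp.isEmbedding_of_immersion X.property (ASp.repWith_mono
        (fun _ _ k (hk : IsOpenImmersion k) => inferInstanceAs (IsImmersion k)) hj)).1.injective h2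
    obtain ⟨z, hz1, hz2⟩ := ASp.points_exists_of_isPullback sqQ _ _ hmf.symm
    refine ⟨v, hz2.symm.trans ?_⟩
    simp only [q, Points.map_comp]
    rw [← hz1, ← Points.map_comp q₁ (inv q₁), IsIso.hom_inv_id, Points.map_id])
  have hqg : i' = qa ≫ g := by
    rw [← cancel_mono j₂.hom, Category.assoc, hg, reassoc_of% hqa, reassoc_of% hq, hr]
  have := mono_openImm hιo
  refine ⟨sqP.lift (𝟙 T') qa (by rw [Category.id_comp]; exact hqg), ?_, sqP.lift_fst _ _ _⟩
  refine sqP.hom_ext (by simp) ?_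
  refine ((Category.assoc _ _ _).trans (congrArg (p₁ ≫ ·) (sqP.lift_snd _ _ _))).trans ?_
  rw [Category.id_comp, ← cancel_mono ((yon S).map ιa), Category.assoc, hqa]
  have h2 : (p₁ ≫ t₀) ≫ i = (p₂ ≫ (yon S).map ιa) ≫ f := by
    rw [← cancel_mono j]
    simp only [Category.assoc]
    rw [reassoc_of% ht₀, hr]
    simp only [m]
    rw [reassoc_of% sqP.w, hg]
  have h3 : sqQ.lift _ _ h2 = p₁ ≫ t₀ ≫ inv q₁ := by
    rw [← cancel_mono q₁, sqQ.lift_fst]
    simp
  calc p₁ ≫ q = (p₁ ≫ t₀ ≫ inv q₁) ≫ q₂ := by simp [q]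
    _ = p₂ ≫ (yon S).map ιa := by rw [← h3, sqQ.lift_snd]

theorem exists_empty_chart (W : AlgSp.Space S) (hW : IsEmpty (Points W.obj)) :
    ∃ (U : Over S) (p : (yon S).obj U ⟶ W.obj), IsEmpty ↥U.left ∧ IsAffine U.left ∧ IsIso p := by
  obtain ⟨U, p, hp, hps⟩ := W.property.atlas
  have hU : IsEmpty ↥U.left := ⟨fun x => hW.false (Points.ofPt p x)⟩
  have hpo : RepWith @IsOpenImmersion p := ⟨hp.1, fun {T Q} a fst snd sq => by
    have : IsEmpty ↥T.left := ⟨fun x => hW.false (Points.ofPt a x)⟩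
    have : IsEmpty ↥Q.left := ⟨fun x => this.false (snd.left x)⟩
    exact (inferInstance : IsOpenImmersion snd.left)⟩
  obtain ⟨k, hk⟩ := exists_fac_openImm hpo (𝟙 W.obj) fun x _ => (hW.false x).elim
  have := mono_openImm hpo
  refine ⟨U, p, hU, isAffine_of_isEmpty, k, ?_, hk⟩
  rw [← cancel_mono p, Category.assoc, hk, Category.id_comp, Category.comp_id]

theorem isElemDistSq_empty {W₁ W₂ : AlgSp.Space S} (κ : W₁ ⟶ W₂) (hκ : RepWith @IsOpenImmersion κ.hom)
    (hs : Set.range (Points.map κ.hom) = Set.univ) :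
    ∃ (U : Over S) (g : (yon S).obj U ⟶ W₂.obj), IsAffine U.left ∧ RepWith @IsOpenImmersion g ∧
      IsEmpty ↥U.left ∧ IsElemDistSq κ.hom g := by
  have hE : IsEmpty (Points (sub W₂ ∅ isOpen_empty).obj) :=
    ⟨fun x => (range_subIncl W₂ ∅ isOpen_empty).subset ⟨x, rfl⟩⟩
  obtain ⟨U, p, hUe, hUa, hp⟩ := exists_empty_chart _ hE
  have hg : RepWith @IsOpenImmersion (p ≫ (subIncl W₂ ∅ isOpen_empty).hom) :=
    (MorphismProperty.cancel_left_of_respectsIso (RepWith @IsOpenImmersion) p _).2 (repWith_subIncl W₂ ∅ isOpen_empty)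
  refine ⟨U, _, hUa, hg, hUe, hκ, isEtaleMor_of_repWith _
    (ASp.repWith_mono (fun _ _ k (hk : IsOpenImmersion k) => inferInstanceAs (Etale k)) hg), ?_⟩
  have hcl : IsClosed (Set.range (Points.map κ.hom))ᶜ := by rw [hs, Set.compl_univ]; exact isClosed_empty
  obtain ⟨T', i', hTa, hi'⟩ := ASp.exists_redInduced W₂.property hcl
  obtain ⟨P', p₁, p₂, sqP⟩ : ∃ (P' : Sp S) (p₁ : P' ⟶ T') (p₂ : P' ⟶ (yon S).obj U),
      IsPullback p₁ p₂ i' (p ≫ (subIncl W₂ ∅ isOpen_empty).hom) := ⟨_, _, _, IsPullback.of_hasPullback _ _⟩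
  refine ⟨T', P', i', p₁, p₂, hi', sqP, ?_⟩
  obtain ⟨q, hq⟩ := exists_fac_openImm hg i' (by
    rintro _ ⟨x, rfl⟩
    have := hi'.2.1.subset ⟨x, rfl⟩
    rw [hs] at this
    exact absurd (Set.mem_univ _) this)
  have := mono_openImm hg
  refine ⟨sqP.lift (𝟙 T') q (by rw [Category.id_comp]; exact hq.symm), ?_, sqP.lift_fst _ _ _⟩
  refine sqP.hom_ext (by simp) ?_
  refine ((Category.assoc _ _ _).trans (congrArg (p₁ ≫ ·) (sqP.lift_snd _ _ _))).trans ?_
  rw [Category.id_comp, ← cancel_mono (p ≫ (subIncl W₂ ∅ isOpen_empty).hom), Category.assoc, hq, sqP.w]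

end Groth.Agent.AlgSpInd
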